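import Groth.Agent.Sga7.H260.Square
import Groth.Agent.Sga7.H270.FinStab
import Groth.Agent.AbVar.K506.Transl
import Groth.Agent.Ega2.AmpleWeight
import Groth.Agent.Ega2.AmpleAff

/-!
# Ampleness by the theorem of the square

`A` an abelian variety over an algebraically closed field, `L` an invertible module.
* `isAmple_of_section`: if a section of `L` has a nonempty affine non-vanishing locus, `L` is ample.
* `finite_stab_of_section`: then only finitely many rational points `x` satisfy `t_x^* L ≅ L`.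
-/

set_option autoImplicit false
universe u

open CategoryTheory Limits MonoidalCategory CartesianMonoidalCategory AlgebraicGeometry TopologicalSpace
open scoped MonObj
open Groth.Agent.Fdesc.LocGen Groth.Agent.Grpsch.PicGrp Groth.Agent.Grpsch.Cube
open Groth.Agent.Sga7.H730.Tr

namespace K188.AmpSq

variable {K : Type u} [Field K] {A : Over (Spec (CommRingCat.of K))} [GrpObj A]

theorem isIso_left {S : Scheme.{u}} {X Y : Over S} (f : X ⟶ Y) [IsIso f] : IsIso f.left :=
  (inferInstance : IsIso ((Over.forget S).map f))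

/-- Given a nonempty open `V` and a rational point `b`, there is a rational point `a` such that
`a b` and `a⁻¹ b` are in `V`. -/
theorem exists_two [IsAlgClosed K] [IsProper A.hom] [GeometricallyIntegral A.hom]
    (V : A.left.Opens) (hV : (V : Set A.left).Nonempty)
    (b : 𝟙_ (Over (Spec (CommRingCat.of K))) ⟶ A) :
    ∃ a : 𝟙_ (Over (Spec (CommRingCat.of K))) ⟶ A,
      K506.Transl.pt (a * b) ∈ V ∧ K506.Transl.pt (a⁻¹ * b) ∈ V := by
  have hint : IsIntegral A.left := GeometricallyIntegral.isIntegral_of_subsingleton A.hom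
  have hcomm := isCommMonObj_of_isProper_of_geometricallyIntegral A
  have : JacobsonSpace A.left := LocallyOfFiniteType.jacobsonSpace A.hom
  have hiso1 : IsIso (tr b).left := isIso_tr_left b
  have hiso2 : IsIso ((𝟙 A)⁻¹ : A ⟶ A).left := Groth.Agent.Grpsch.MulFin.isIso_inv_left A
  let φ₂ : A.left ⟶ A.left := ((𝟙 A)⁻¹ : A ⟶ A).left ≫ (tr b).left
  have hne : ∀ φ : A.left ⟶ A.left, IsIso φ → ((φ ⁻¹ᵁ V : A.left.Opens) : Set A.left).Nonempty := by
    intro φ hφ
    obtain ⟨v, hv⟩ := hV
    obtain ⟨w, hw⟩ := φ.surjective v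
    exact ⟨w, show φ w ∈ V by rw [hw]; exact hv⟩
  have hdense := (((tr b).left ⁻¹ᵁ V).2).dense (hne _ hiso1)
  obtain ⟨x, hx⟩ := hdense.inter_open_nonempty _ (φ₂ ⁻¹ᵁ V).2 (hne φ₂ inferInstance)
  obtain ⟨y, ⟨hy2, hy1⟩, hyc⟩ := nonempty_inter_closedPoints (X := A.left)
    (Z := ((φ₂ ⁻¹ᵁ V : A.left.Opens) : Set A.left) ∩ (((tr b).left ⁻¹ᵁ V : A.left.Opens) : Set A.left))
    ⟨x, hx⟩ (((φ₂ ⁻¹ᵁ V).2.isLocallyClosed).inter (((tr b).left ⁻¹ᵁ V).2.isLocallyClosed))
  obtain ⟨a, ha⟩ := K506.Transl.exists_point (X := A) y hyc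
  have hcommPt : ∀ c d : 𝟙_ (Over (Spec (CommRingCat.of K))) ⟶ A, c * d = d * c := fun c d => mul_comm c d
  refine ⟨a, ?_, ?_⟩
  · have h1 : a ≫ tr b = a * b := by
      rw [comp_tr, Subsingleton.elim (toUnit (𝟙_ (Over (Spec (CommRingCat.of K))))) (𝟙 _),
        Category.id_comp, hcommPt]
    change (a * b).left _ ∈ V
    rw [← h1, Over.comp_left, Scheme.Hom.comp_apply]
    change (tr b).left (K506.Transl.pt a) ∈ V
    rw [ha]
    exact hy1
  · have h1 : a ≫ (𝟙 A)⁻¹ ≫ tr b = a⁻¹ * b := by
      rw [← Category.assoc, GrpObj.comp_inv, Category.comp_id, comp_tr,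
        Subsingleton.elim (toUnit (𝟙_ (Over (Spec (CommRingCat.of K))))) (𝟙 _),
        Category.id_comp, hcommPt]
    change (a⁻¹ * b).left _ ∈ V
    rw [← h1, Over.comp_left, Over.comp_left, Scheme.Hom.comp_apply]
    change φ₂ (K506.Transl.pt a) ∈ V
    rw [ha]
    exact hy2

/-- An invertible module with a section whose non-vanishing locus is affine and nonempty is ample. -/
theorem isAmple_of_section [IsAlgClosed K] [IsProper A.hom] [GeometricallyIntegral A.hom]
    (L : A.left.Modules) (hL : PicF.IsInvertible L) (s : Coh.structureModule A.left ⟶ L)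
    (haff : IsAffineOpen (CohB1.genLocus L s)) (hne : (CohB1.genLocus L s : Set A.left).Nonempty) :
    CohB1.IsAmple L := by
  have : JacobsonSpace A.left := LocallyOfFiniteType.jacobsonSpace A.hom
  have hcs : CompactSpace A.left := QuasiCompact.compactSpace_of_compactSpace A.hom
  have hsep : A.left.IsSeparated := ⟨by
    have : IsSeparated (A.hom ≫ terminal.from _) := inferInstance
    rwa [terminal.comp_from] at this⟩
  refine ⟨hL, hcs, fun x => ?_⟩
  obtain ⟨y, hy, hyc⟩ := nonempty_inter_closedPoints (X := A.left) (Z := closure {x})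
    ⟨x, subset_closure rfl⟩ isClosed_closure.isLocallyClosed
  obtain ⟨b, hb⟩ := K506.Transl.exists_point (X := A) y hyc
  obtain ⟨a, ha, ha'⟩ := exists_two (CohB1.genLocus L s) hne b
  let τ : A.left ⟶ A.left := (tr a).left
  let τ' : A.left ⟶ A.left := (tr a⁻¹).left
  have hτ : IsIso τ := isIso_tr_left a
  have hτ' : IsIso τ' := isIso_tr_left a⁻¹
  let t : Coh.structureModule A.left ⟶ CohB1.tensorMod ((Scheme.Modules.pullback τ).obj L)
      ((Scheme.Modules.pullback τ').obj L) :=
    Groth.Agent.Ega2.Weight.tmulHom (Groth.Agent.Ega2.Weight.pullHom τ s)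
      (Groth.Agent.Ega2.Weight.pullHom τ' s)
  have ht : CohB1.genLocus _ t = τ ⁻¹ᵁ (CohB1.genLocus L s) ⊓ τ' ⁻¹ᵁ (CohB1.genLocus L s) := by
    rw [Groth.Agent.Ega2.Weight.genLocus_tmulHom (isInvertible_pullback τ hL) (isInvertible_pullback τ' hL),
      Groth.Agent.Ega2.Weight.genLocus_pullHom τ hL, Groth.Agent.Ega2.Weight.genLocus_pullHom τ' hL]
  have hiso : Nonempty (CohB1.tensorMod ((Scheme.Modules.pullback τ).obj L)
      ((Scheme.Modules.pullback τ').obj L) ≅ CohB1.tensorPow L (1 + 1)) := by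
    rw [← mk_eq_iff (isInvertible_tensorMod (isInvertible_pullback τ hL) (isInvertible_pullback τ' hL))
      (isInvertible_tensorPow hL (1 + 1)),
      ← mk_mul_mk (isInvertible_pullback τ hL) (isInvertible_pullback τ' hL), ← pull_mk τ hL,
      ← pull_mk τ' hL, mk_tensorPow hL, pow_add, pow_one]
    exact Groth.Agent.Sga7.H260.Square.square (mk L hL) a
  obtain ⟨e⟩ := hiso
  refine ⟨1, t ≫ e.hom, ?_, ?_⟩
  · rw [Groth.Agent.Ega2.Weight.genLocus_comp, ht]
    have hmem : y ∈ τ ⁻¹ᵁ (CohB1.genLocus L s) ⊓ τ' ⁻¹ᵁ (CohB1.genLocus L s) := by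
      have h1 : ∀ c : 𝟙_ (Over (Spec (CommRingCat.of K))) ⟶ A, (tr c).left y = K506.Transl.pt (c * b) := by
        intro c
        have h2 : b ≫ tr c = c * b := by
          rw [comp_tr, Subsingleton.elim (toUnit (𝟙_ (Over (Spec (CommRingCat.of K))))) (𝟙 _),
            Category.id_comp]
        rw [← h2, ← hb]
        rfl
      refine ⟨?_, ?_⟩
      · change (tr a).left y ∈ CohB1.genLocus L s
        rw [h1]
        exact ha
      · change (tr a⁻¹).left y ∈ CohB1.genLocus L s
        rw [h1]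
        exact ha'
    exact (specializes_iff_mem_closure.mpr hy).mem_open
      (τ ⁻¹ᵁ (CohB1.genLocus L s) ⊓ τ' ⁻¹ᵁ (CohB1.genLocus L s)).2 hmem
  · rw [Groth.Agent.Ega2.Weight.genLocus_comp, ht]
    exact (haff.preimage τ).inf (haff.preimage τ')

/-- Finiteness of the stabiliser of the class of a module with such a section. -/
theorem finite_stab_of_section [IsAlgClosed K] [IsProper A.hom] [GeometricallyIntegral A.hom]
    (L : A.left.Modules) (hL : PicF.IsInvertible L) (s : Coh.structureModule A.left ⟶ L)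
    (haff : IsAffineOpen (CohB1.genLocus L s)) (hne : (CohB1.genLocus L s : Set A.left).Nonempty) :
    Set.Finite {x : 𝟙_ (Over (Spec (CommRingCat.of K))) ⟶ A | pl (tr x) (mk L hL) = mk L hL} := by
  refine (Groth.Agent.Sga7.H270.FinStab.finite_stab K A L (isAmple_of_section L hL s haff hne)).subset ?_
  intro x hx
  have hx' : pull (tr x).left (mk L hL) = mk L hL := hx
  rw [pull_mk _ hL, mk_eq_iff] at hx'
  exact hx'

/-- The points `x` with `t_x^* L` of a given class form a finite set. -/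
theorem finite_of_section [IsAlgClosed K] [IsProper A.hom] [GeometricallyIntegral A.hom]
    (L : A.left.Modules) (hL : PicF.IsInvertible L) (s : Coh.structureModule A.left ⟶ L)
    (haff : IsAffineOpen (CohB1.genLocus L s)) (hne : (CohB1.genLocus L s : Set A.left).Nonempty)
    (d : Pic A.left) :
    Set.Finite {x : 𝟙_ (Over (Spec (CommRingCat.of K))) ⟶ A | pl (tr x) (mk L hL) = d} := by
  have hcomm := isCommMonObj_of_isProper_of_geometricallyIntegral A
  rcases Set.eq_empty_or_nonempty
    {x : 𝟙_ (Over (Spec (CommRingCat.of K))) ⟶ A | pl (tr x) (mk L hL) = d} with h0 | ⟨x₀, hx₀⟩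
  · rw [h0]
    exact Set.finite_empty
  · have hfin := finite_stab_of_section L hL s haff hne
    refine (hfin.image (fun y => y * x₀)).subset ?_
    intro x hx
    refine ⟨x * x₀⁻¹, ?_, inv_mul_cancel_right x x₀⟩
    have h1 : pl (tr x) (mk L hL) = pl (tr x₀) (mk L hL) := (show _ = d from hx).trans (show _ = d from hx₀).symm
    have h2 : tr (x * x₀⁻¹) = tr x₀⁻¹ ≫ tr x := (tr_comp_tr _ _).symm
    have h3 : tr x₀⁻¹ ≫ tr x₀ = 𝟙 A := by
      rw [tr_comp_tr, mul_inv_cancel, tr_one]
    change pl (tr (x * x₀⁻¹)) (mk L hL) = mk L hL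
    rw [h2, pl_comp, h1, ← pl_comp, h3]
    unfold pl
    rw [Over.id_left, pull_id]

end K188.AmpSq
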