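import Groth.Agent.Dix.WeilSpread
import Groth.Agent.Ega4dB.SmoothReg
import Groth.Agent.S2821
import Groth.Prelude.Def_Neron
import Mathlib.AlgebraicGeometry.Geometrically.Integral

/-!
# The Néron mapping property from the extension of sections over regular local rings
-/

set_option autoImplicit false
universe u

open CategoryTheory Limits AlgebraicGeometry TopologicalSpace MonoidalCategory CartesianMonoidalCategory

namespace K188.Assemble

open Groth.Agent.Dix.WeilSch

/-- A dense open of a locally noetherian scheme contains a generalization of every point. -/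
theorem exists_mem_specializes_of_dense {X : Scheme.{u}} [IsLocallyNoetherian X] (U : X.Opens)
    (hU : Dense (U : Set X)) (x : X) : ∃ ξ ∈ U, ξ ⤳ x := by
  obtain ⟨W, hW, hxW, -⟩ := exists_isAffineOpen_mem_and_subset (X := X) (x := x) (U := ⊤) trivial
  have hWn : IsLocallyNoetherian W.toScheme := inferInstance
  have : CompactSpace W.toScheme := isCompact_iff_compactSpace.mp hW.isCompact
  have : IsNoetherian W.toScheme := {}
  have hNS : TopologicalSpace.NoetherianSpace W.toScheme := inferInstance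
  let xW : W.toScheme := ⟨x, hxW⟩
  have hT : irreducibleComponent xW ∈ irreducibleComponents W.toScheme :=
    irreducibleComponent_mem_irreducibleComponents xW
  obtain ⟨o, ho, hne, hoT⟩ :=
    TopologicalSpace.NoetherianSpace.exists_isOpen_nonempty_subset_irreducibleComponent
      (α := W.toScheme) _ hT
  obtain ⟨ξ, hξ⟩ := QuasiSober.sober hT.1 (isClosed_of_mem_irreducibleComponents _ hT)
  have hoX : IsOpen (W.ι '' o) := W.ι.isOpenEmbedding.isOpenMap _ ho
  obtain ⟨r, ⟨r', hr'o, rfl⟩, hrU⟩ :=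
    (hU.inter_open_nonempty _ hoX (hne.image _))
  have h1 : ξ ⤳ r' := hξ.specializes (hoT hr'o)
  have h2 : ξ ⤳ xW := hξ.specializes mem_irreducibleComponent
  exact ⟨W.ι ξ, (h1.map W.ι.continuous).mem_open U.2 hrU, h2.map W.ι.continuous⟩

/-- The extension property for sections over regular local rings. -/
def CoreProp (R : Type u) [CommRing R] : Prop :=
  ∀ (G : Over (Spec (CommRingCat.of R))) [GrpObj G] [IsProper G.hom] [Smooth G.hom]
    [GeometricallyIntegral G.hom]
    (W : (Spec (CommRingCat.of R)).Opens) (_ : (W : Set (Spec (CommRingCat.of R))).Nonempty)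
    (σ : (W : Scheme.{u}) ⟶ G.left) (_ : σ ≫ G.hom = W.ι),
    ∃ τ : Spec (CommRingCat.of R) ⟶ G.left, τ ≫ G.hom = 𝟙 _ ∧ W.ι ≫ τ = σ

theorem isReduced_of_regular (X : Scheme.{u}) (hreg : ∀ x : X, IsRegularLocalRing (X.presheaf.stalk x)) :
    IsReduced X := by
  have : ∀ x : X, _root_.IsReduced (X.presheaf.stalk x) := fun x => by
    have := (Groth.Agent.S2821.result (X.presheaf.stalk x)).1
    infer_instance
  exact isReduced_of_isReduced_stalk X

variable {S : Scheme.{u}} (A Y : Over S)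

theorem map_left_fst (U : S.Opens) (f : Y ⟶ A) :
    ((Over.pullback U.ι).map f).left ≫ pullback.fst A.hom U.ι = pullback.fst Y.hom U.ι ≫ f.left := by
  simp only [Over.pullback_map_left]
  exact pullback.lift_fst _ _ _

theorem injective [IsSeparated A.hom] [IsReduced Y.left] (U : S.Opens)
    (hU : Dense ((Y.hom ⁻¹ᵁ U : Y.left.Opens) : Set Y.left)) :
    Function.Injective (fun f : Y ⟶ A => (Over.pullback U.ι).map f) := by
  intro f g hfg
  have h1 : pullback.fst Y.hom U.ι ≫ f.left = pullback.fst Y.hom U.ι ≫ g.left := by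
    rw [← map_left_fst, ← map_left_fst]
    exact congrArg (fun k => k.left ≫ pullback.fst A.hom U.ι) hfg
  have h2 : (Y.hom ⁻¹ᵁ U).ι ≫ f.left = (Y.hom ⁻¹ᵁ U).ι ≫ g.left := by
    rw [← pullbackRestrictIsoRestrict_inv_fst, Category.assoc, Category.assoc, h1]
  have : IsDominant (Y.hom ⁻¹ᵁ U).ι := Opens.isDominant_ι hU
  ext1
  exact ext_of_isDominant_of_isSeparated A.hom ((Over.w f).trans (Over.w g).symm) _ h2

theorem surjective [IsSeparated A.hom] (U : S.Opens)
    (hext : ∀ f0 : ((Y.hom ⁻¹ᵁ U : Y.left.Opens) : Scheme.{u}) ⟶ A.left,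
      f0 ≫ A.hom = (Y.hom ⁻¹ᵁ U).ι ≫ Y.hom → ∃ g : Y.left ⟶ A.left, g ≫ A.hom = Y.hom ∧
        (Y.hom ⁻¹ᵁ U).ι ≫ g = f0) :
    Function.Surjective (fun f : Y ⟶ A => (Over.pullback U.ι).map f) := by
  intro φ
  have hφ : φ.left ≫ pullback.snd A.hom U.ι = pullback.snd Y.hom U.ι := Over.w φ
  obtain ⟨g, hg1, hg2⟩ := hext ((pullbackRestrictIsoRestrict Y.hom U).inv ≫ φ.left ≫
    pullback.fst A.hom U.ι) (by
      rw [Category.assoc, Category.assoc, pullback.condition, reassoc_of% hφ, ← pullback.condition,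
        ← Category.assoc, pullbackRestrictIsoRestrict_inv_fst])
  refine ⟨Over.homMk g hg1, ?_⟩
  ext1
  apply pullback.hom_ext
  · refine (map_left_fst A Y U (Over.homMk g hg1)).trans ?_
    change pullback.fst Y.hom U.ι ≫ g = _
    rw [← cancel_epi (pullbackRestrictIsoRestrict Y.hom U).inv, ← Category.assoc,
      pullbackRestrictIsoRestrict_inv_fst, hg2]
  · exact (Over.w ((Over.pullback U.ι).map (Over.homMk g hg1))).trans hφ.symm

theorem exists_local [IsLocallyNoetherian Y.left] [IsReduced Y.left]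
    [GrpObj A] [IsProper A.hom] [Smooth A.hom] [GeometricallyIntegral A.hom]
    (U : Y.left.Opens) (hU : Dense (U : Set Y.left)) (f0 : (U : Scheme.{u}) ⟶ A.left)
    (hf0 : f0 ≫ A.hom = U.ι ≫ Y.hom) (x : Y.left)
    (hcore : CoreProp (Y.left.presheaf.stalk x)) :
    ∃ (W : Scheme.{u}) (j : W ⟶ Y.left) (_ : IsOpenImmersion j) (g : W ⟶ A.left),
      x ∈ Set.range j ∧ g ≫ A.hom = j ≫ Y.hom ∧
      ∀ hV, (j ⁻¹ᵁ U).ι ≫ g = ev U f0 ((j ⁻¹ᵁ U).ι ≫ j) hV := by
  let p : Spec (Y.left.presheaf.stalk x) ⟶ Y.left := Y.left.fromSpecStalk x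
  let G : Over (Spec (Y.left.presheaf.stalk x)) := (Over.pullback (p ≫ Y.hom)).obj A
  have h1 : IsProper G.hom := (inferInstance : IsProper (pullback.snd A.hom (p ≫ Y.hom)))
  have h2 : Smooth G.hom := (inferInstance : Smooth (pullback.snd A.hom (p ≫ Y.hom)))
  have h3 : GeometricallyIntegral G.hom :=
    (inferInstance : GeometricallyIntegral (pullback.snd A.hom (p ≫ Y.hom)))
  have h4 : GrpObj G := Functor.grpObjObj
  let W : (Spec (Y.left.presheaf.stalk x)).Opens := p ⁻¹ᵁ U
  have hW : (W : Set (Spec (Y.left.presheaf.stalk x))).Nonempty := by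
    obtain ⟨ξ, hξU, hξ⟩ := exists_mem_specializes_of_dense U hU x
    have h5 : ξ ∈ Set.range p := by
      rw [Scheme.range_fromSpecStalk]
      exact hξ
    obtain ⟨y, rfl⟩ := h5
    exact ⟨y, hξU⟩
  have hV : ∀ w : (W : Scheme.{u}), (W.ι ≫ p) w ∈ U := fun w => w.2
  have hev : ev U f0 (W.ι ≫ p) hV ≫ A.hom = W.ι ≫ p ≫ Y.hom := by
    rw [ev_over U f0 hf0, Category.assoc]
  obtain ⟨τ, hτ1, hτ2⟩ := hcore G W hW (pullback.lift (ev U f0 (W.ι ≫ p) hV) W.ι hev)
    (pullback.lift_snd _ _ _)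
  refine Groth.Agent.Dix.WeilSpread.spread Y.hom A.hom U f0 hf0 x (τ ≫ pullback.fst A.hom (p ≫ Y.hom)) ?_ ?_
  · have h6 : τ ≫ pullback.snd A.hom (p ≫ Y.hom) = 𝟙 _ := hτ1
    rw [Category.assoc, pullback.condition, reassoc_of% h6]
  · intro hV'
    change W.ι ≫ _ = _
    rw [← Category.assoc, hτ2, pullback.lift_fst]

theorem bijective [IsLocallyNoetherian S] (hreg : ∀ s : S, IsRegularLocalRing (S.presheaf.stalk s))
    (U : S.Opens) (hU : Dense (U : Set S))
    [GrpObj A] [IsProper A.hom] [Smooth A.hom] [GeometricallyIntegral A.hom] [Smooth Y.hom]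
    (hcore : ∀ (R : Type u) [CommRing R] [IsRegularLocalRing R], CoreProp R) :
    Function.Bijective (fun f : Y ⟶ A => (Over.pullback U.ι).map f) := by
  have hregY : ∀ y : Y.left, IsRegularLocalRing (Y.left.presheaf.stalk y) := fun y =>
    Groth.Agent.Ega4dB.SmoothReg.isRegularLocalRing_stalk_of_smooth Y.hom y (hreg _)
  have hred : IsReduced Y.left := isReduced_of_regular Y.left hregY
  have hnoeth : IsLocallyNoetherian Y.left := LocallyOfFiniteType.isLocallyNoetherian Y.hom
  have hopen : IsOpenMap Y.hom := Y.hom.isOpenMap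
  have hUY : Dense ((Y.hom ⁻¹ᵁ U : Y.left.Opens) : Set Y.left) := hU.preimage hopen
  refine ⟨injective A Y U hUY, surjective A Y U fun f0 hf0 => ?_⟩
  exact Groth.Agent.Dix.WeilGlue.glue Y.hom A.hom (Y.hom ⁻¹ᵁ U) f0 hUY hf0 fun x =>
    have := hregY x
    exists_local A Y (Y.hom ⁻¹ᵁ U) hUY f0 hf0 x (hcore _)

end K188.Assemble
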