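import Groth.Agent.Grpsch.CubeClosed
import Groth.Agent.Grpsch.PicGrp
import Groth.Agent.Sga7.H270.FinPts
import Mathlib.CategoryTheory.Monoidal.Cartesian.Over

/-!
# Trivial line bundles on the fibres of `G × Γ → Γ` and dense preimmersions

`G/S` flat proper of finite presentation with geometrically integral fibres.
* `pull_eq_one`: a class on `G × Γ` which is trivial over a dense `T ⟶ Γ` is trivial over every field valued point.
-/

set_option autoImplicit false
universe u

open CategoryTheory Limits MonoidalCategory CartesianMonoidalCategory AlgebraicGeometry TopologicalSpace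
open Groth.Agent.Fdesc.LocGen Groth.Agent.Grpsch.PicGrp

namespace K188.Closure

variable {S : Scheme.{u}} (G : Over S)

/-- the fibre of `G × Γ → Γ` maps to `G × Z` for `Z = Spec κ(z)` -/
theorem exists_fibre_lift {Γ Z : Over S} (z : Γ.left) (ζ : Z ⟶ Γ)
    (e : Spec (Γ.left.residueField z) ⟶ Z.left) (he : e ≫ ζ.left = Γ.left.fromSpecResidueField z) :
    ∃ θ : (snd G Γ).left.fiber z ⟶ (G ⊗ Z).left, θ ≫ (G ◁ ζ).left = (snd G Γ).left.fiberι z := by
  let F : Over S := Over.mk ((snd G Γ).left.fiberι z ≫ (G ⊗ Γ).hom)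
  let i : F ⟶ G ⊗ Γ := Over.homMk ((snd G Γ).left.fiberι z) rfl
  have h1 := (snd G Γ).left.fiber_fac z
  let k : F ⟶ Z := Over.homMk ((snd G Γ).left.fiberToSpecResidueField z ≫ e) (by
    rw [← Over.w ζ, Category.assoc, reassoc_of% he, ← reassoc_of% h1, Over.w]
    rfl)
  have hk : k ≫ ζ = i ≫ snd G Γ := by
    ext1
    rw [Over.comp_left, Over.comp_left]
    change ((snd G Γ).left.fiberToSpecResidueField z ≫ e) ≫ ζ.left = _
    rw [Category.assoc, he, ← h1]
    rfl
  let θ : F ⟶ G ⊗ Z := lift (i ≫ fst G Γ) k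
  have hθ : θ ≫ (G ◁ ζ) = i := by
    apply CartesianMonoidalCategory.hom_ext
    · rw [Category.assoc, whiskerLeft_fst, lift_fst]
    · rw [Category.assoc, whiskerLeft_snd, lift_snd_assoc, hk]
  exact ⟨θ.left, congrArg (fun g => g.left) hθ⟩

/-- conversely a field valued point factors through the fibre -/
theorem exists_point_lift {Γ X : Over S} (x : X ⟶ Γ) (z : Γ.left)
    (h : X.left ⟶ Spec (Γ.left.residueField z)) (hh : h ≫ Γ.left.fromSpecResidueField z = x.left) :
    ∃ θ : (G ⊗ X).left ⟶ (snd G Γ).left.fiber z, θ ≫ (snd G Γ).left.fiberι z = (G ◁ x).left := by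
  have h1 : (G ◁ x).left ≫ (snd G Γ).left = ((snd G X).left ≫ h) ≫ Γ.left.fromSpecResidueField z := by
    rw [Category.assoc, hh, ← Over.comp_left, ← Over.comp_left, whiskerLeft_snd]
  exact ⟨pullback.lift _ _ h1, pullback.lift_fst _ _ h1⟩

variable [Flat G.hom] [IsProper G.hom] [LocallyOfFinitePresentation G.hom] [GeometricallyIntegral G.hom]

theorem pull_eq_one {T Γ : Over S} (q : T ⟶ Γ) [IsPreimmersion q.left] [IsDominant q.left]
    (d : Pic (G ⊗ Γ).left) (hd : pull (G ◁ q).left d = 1) {X : Over S} (x : X ⟶ Γ) (z : Γ.left)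
    (h : X.left ⟶ Spec (Γ.left.residueField z)) (hh : h ≫ Γ.left.fromSpecResidueField z = x.left) :
    pull (G ◁ x).left d = 1 := by
  obtain ⟨L, hL, rfl⟩ := exists_mk d
  have hf : Flat (snd G Γ).left := (inferInstance : Flat (pullback.snd G.hom Γ.hom))
  have hp : IsProper (snd G Γ).left := (inferInstance : IsProper (pullback.snd G.hom Γ.hom))
  have hl : LocallyOfFinitePresentation (snd G Γ).left :=
    (inferInstance : LocallyOfFinitePresentation (pullback.snd G.hom Γ.hom))
  have hg : GeometricallyIntegral (snd G Γ).left :=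
    (inferInstance : GeometricallyIntegral (pullback.snd G.hom Γ.hom))
  have hcl := Groth.Agent.Grpsch.CubeClosed.isClosed_trivialLocus (snd G Γ).left L hL
  have hmem : ∀ z : Γ.left, z ∈ {z : Γ.left | Nonempty ((Scheme.Modules.pullback
      ((snd G Γ).left.fiberι z)).obj L ≅ Coh.structureModule ((snd G Γ).left.fiber z))} ↔
      pull ((snd G Γ).left.fiberι z) (mk L hL) = 1 := by
    intro z
    rw [pull_mk, mk_eq_one_iff]
    rfl
  have hall : ∀ z : Γ.left, pull ((snd G Γ).left.fiberι z) (mk L hL) = 1 := by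
    intro z
    rw [← hmem z]
    have hdense := q.left.denseRange
    have hsub : Set.range q.left ⊆ {z : Γ.left | Nonempty ((Scheme.Modules.pullback
      ((snd G Γ).left.fiberι z)).obj L ≅ Coh.structureModule ((snd G Γ).left.fiber z))} := by
      rintro _ ⟨w, rfl⟩
      rw [hmem]
      obtain ⟨g', hg'⟩ := Groth.Agent.Sga7.H270.FinPts.exists_lift_residueField q.left w
      obtain ⟨θ, hθ⟩ := exists_fibre_lift G (q.left w) q g' hg'
      rw [← hθ, pull_comp, hd, map_one]
    have huniv := hcl.closure_subset_iff.mpr hsub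
    rw [hdense.closure_range] at huniv
    exact huniv (Set.mem_univ z)
  obtain ⟨θ, hθ⟩ := exists_point_lift G x z h hh
  rw [← hθ, pull_comp, hall, map_one]

theorem pull_eq_pull {T Γ : Over S} (q : T ⟶ Γ) [IsPreimmersion q.left] [IsDominant q.left]
    (a b : G ⊗ Γ ⟶ G) (c n : Pic G.left) (hd : pull ((G ◁ q) ≫ a).left c = pull ((G ◁ q) ≫ b).left n)
    {X : Over S} (x : X ⟶ Γ) (z : Γ.left)
    (h : X.left ⟶ Spec (Γ.left.residueField z)) (hh : h ≫ Γ.left.fromSpecResidueField z = x.left) :
    pull ((G ◁ x) ≫ a).left c = pull ((G ◁ x) ≫ b).left n := by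
  have h1 := pull_eq_one G q (pull a.left c * (pull b.left n)⁻¹) (by
    rw [map_mul, map_inv, ← pull_comp, ← pull_comp, ← Over.comp_left, ← Over.comp_left, hd,
      mul_inv_cancel]) x z h hh
  rw [map_mul, map_inv, ← pull_comp, ← pull_comp, ← Over.comp_left, ← Over.comp_left,
    mul_inv_eq_one] at h1
  exact h1

end K188.Closure
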