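import Groth.Agent.Dix.Cast5
import Groth.Agent.S1572
import Groth.Agent.S2821

/-!
# Sections of invertible modules with affine non-vanishing locus on regular schemes

* `exists_section`: on an integral Noetherian separated scheme with regular local rings every point has an affine
  open neighbourhood which is the non-vanishing locus of a section of an invertible module.
-/

set_option autoImplicit false
universe u

open CategoryTheory Limits AlgebraicGeometry TopologicalSpace
open Groth.Agent.Grpsch.PicGrp

namespace K188.DivSec

theorem exists_section (X : Scheme.{u}) [IsIntegral X] [IsNoetherian X] [X.IsSeparated]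
    (hreg : ∀ x : X, IsRegularLocalRing (X.presheaf.stalk x)) (x : X) :
    ∃ (L : X.Modules) (_ : PicF.IsInvertible L) (s : Coh.structureModule X ⟶ L),
      IsAffineOpen (CohB1.genLocus L s) ∧ x ∈ CohB1.genLocus L s := by
  obtain ⟨V, hV, hxV, -⟩ := exists_isAffineOpen_mem_and_subset (U := (⊤ : X.Opens))
    (show x ∈ (⊤ : X.Opens) from trivial)
  have hdense : Dense (V : Set X) := V.2.dense ⟨x, hxV⟩
  obtain ⟨D, hD, hsupp⟩ := Groth.Agent.S1572.result X V hV hdense
    (fun y _ => Groth.Agent.S2821.result (X.presheaf.stalk y))
  have hker : D.subschemeι.ker = D := D.ker_subschemeι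
  have hD' : BlowUp.IsEffCartierIdeal D.subschemeι.ker := hker.symm ▸ hD
  obtain ⟨s, hs⟩ := Groth.Agent.Dix.Cast5.exists_section D.subschemeι hD'
  have hloc : CohB1.genLocus _ s = V := by
    apply Opens.ext
    rw [hs, D.range_subschemeι, hsupp, compl_compl]
  refine ⟨_, isInvertible_dual (Groth.Agent.Dix.IdealModCartier.isInvertible_idealMod hD'), s, ?_, ?_⟩
  · rw [hloc]
    exact hV
  · rw [hloc]
    exact hxV

end K188.DivSec
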