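import Mathlib.AlgebraicGeometry.ZariskisMainTheorem
import Mathlib.AlgebraicGeometry.AlgClosed.Basic
import Mathlib.FieldTheory.IsAlgClosed.Basic
import Mathlib.AlgebraicGeometry.Fiber

/-!
# Proper schemes over a local ring with finitely many geometric points over the closed point

* `exists_geomPt`: a closed point of a scheme locally of finite type over a field `k` lifts to a point with
  values in any algebraically closed extension of `k`.
* `isFinite_of_geomPts`: a proper scheme over a local ring with finitely many geometric points over the closed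
  point is finite.
-/

set_option autoImplicit false
universe u

open CategoryTheory CategoryTheory.Limits AlgebraicGeometry

namespace K188.FinPts

theorem exists_geomPt {k : CommRingCat.{u}} (hk : IsField k) (Ω : Type u) [Field Ω]
    [IsAlgClosed Ω] (φ : k ⟶ CommRingCat.of Ω)
    {X : Scheme.{u}} (p : X ⟶ Spec k) [LocallyOfFiniteType p] (x : X) (hx : IsClosed ({x} : Set X)) :
    ∃ z : Spec (CommRingCat.of Ω) ⟶ X, z ≫ p = Spec.map φ ∧ x ∈ Set.range z := by
  letI := hk.toField
  have hj : JacobsonSpace X := LocallyOfFiniteType.jacobsonSpace p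
  have h1 : LocallyOfFiniteType (X.fromSpecResidueField x) := isClosed_singleton_iff_locallyOfFiniteType.mp hx
  obtain ⟨ψ, hψ⟩ := Spec.map_surjective (X.fromSpecResidueField x ≫ p)
  have h2 : LocallyOfFiniteType (Spec.map ψ) := by rw [hψ]; infer_instance
  have h3 : ψ.hom.FiniteType := (HasRingHomProperty.Spec_iff (P := @LocallyOfFiniteType)).mp h2
  algebraize [ψ.hom, φ.hom]
  have h4 : Module.Finite k (X.residueField x) := finite_of_finite_type_of_isJacobsonRing k (X.residueField x)
  have h5 : Algebra.IsAlgebraic k (X.residueField x) := Algebra.IsAlgebraic.of_finite _ _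
  let l : X.residueField x →ₐ[k] Ω := IsAlgClosed.lift
  refine ⟨Spec.map (CommRingCat.ofHom l.toRingHom) ≫ X.fromSpecResidueField x, ?_, ?_⟩
  · rw [Category.assoc, ← hψ, ← Spec.map_comp]
    congr 1
    ext r
    exact l.commutes r
  · have h7 := Scheme.range_fromSpecResidueField x
    refine ⟨(IsLocalRing.closedPoint Ω : PrimeSpectrum Ω), ?_⟩
    rw [Scheme.Hom.comp_apply]
    have h8 : X.fromSpecResidueField x (Spec.map (CommRingCat.ofHom l.toRingHom) (IsLocalRing.closedPoint Ω))
      ∈ Set.range (X.fromSpecResidueField x) := ⟨_, rfl⟩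
    rw [h7] at h8
    exact h8

theorem quasiFiniteAt {X S : Scheme.{u}} (p : X ⟶ S) [LocallyOfFiniteType p] (s : S)
    (hs : DiscreteTopology (p.fiber s)) (x : X) (hx : p x = s) : p.QuasiFiniteAt x := by
  subst hx
  rw [Scheme.Hom.quasiFiniteAt_iff_isOpen_singleton_asFiber]
  exact isOpen_discrete _

theorem isFinite_of_geomPts {R : Type u} [CommRing R] [IsLocalRing R] {X : Scheme.{u}}
    (p : X ⟶ Spec (CommRingCat.of R)) [IsProper p]
    (Ω : Type u) [Field Ω] [IsAlgClosed Ω] (f : Spec (CommRingCat.of Ω) ⟶ Spec (CommRingCat.of R))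
    (hf : f (IsLocalRing.closedPoint Ω) = IsLocalRing.closedPoint R)
    (hfin : Finite {z : Spec (CommRingCat.of Ω) ⟶ X // z ≫ p = f}) : IsFinite p := by
  have key : ∀ s : Spec (CommRingCat.of R), f (IsLocalRing.closedPoint Ω) = s →
      DiscreteTopology (p.fiber s) := by
    rintro s rfl
    set s := f (IsLocalRing.closedPoint Ω)
    have h1 := Scheme.descResidueField_stalkClosedPointTo_fromSpecResidueField Ω _ f
    set φ := Scheme.descResidueField (Scheme.stalkClosedPointTo f)
    have hj : JacobsonSpace (p.fiber s) := inferInstance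
    have hft : LocallyOfFiniteType (p.fiberToSpecResidueField s) :=
      MorphismProperty.pullback_snd _ _ inferInstance
    apply JacobsonSpace.discreteTopology
    have h2 : ∀ y : closedPoints (p.fiber s), ∃ z : Spec (CommRingCat.of Ω) ⟶ p.fiber s,
        z ≫ p.fiberToSpecResidueField s = Spec.map φ ∧ y.1 ∈ Set.range z := fun y =>
      exists_geomPt (Field.toIsField ((Spec (CommRingCat.of R)).residueField s)) Ω φ _ y.1 y.2
    choose z hz hz' using h2
    have h3 : ∀ y, (z y ≫ p.fiberι s) ≫ p = f := fun y => by
      rw [Category.assoc, p.fiber_fac, ← Category.assoc, hz]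
      exact h1
    have : Function.Injective (fun y => (⟨z y ≫ p.fiberι s, h3 y⟩ :
        {z : Spec (CommRingCat.of Ω) ⟶ X // z ≫ p = f})) := by
      intro y y' hyy
      have h4 : z y ≫ p.fiberι s = z y' ≫ p.fiberι s := congrArg Subtype.val hyy
      rw [cancel_mono] at h4
      obtain ⟨a, ha⟩ := hz' y
      obtain ⟨b, hb⟩ := hz' y'
      have h5 : a = b := Subsingleton.elim (α := PrimeSpectrum Ω) a b
      apply Subtype.ext
      rw [← ha, ← hb, h4, h5]
    have h6 : Finite (closedPoints (p.fiber s)) := Finite.of_injective _ this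
    exact h6
  have hqf : ∀ x : X, p x = IsLocalRing.closedPoint R → x ∈ p.quasiFiniteLocus := fun x hx =>
    quasiFiniteAt p _ (key _ hf) x hx
  have htop : p.quasiFiniteLocus = ⊤ := by
    by_contra hne
    have hne' : ((p.quasiFiniteLocus : Set X)ᶜ).Nonempty := by
      rw [Set.nonempty_compl]
      intro h
      exact hne (TopologicalSpace.Opens.ext h)
    have hcl : IsClosed (p '' (p.quasiFiniteLocus : Set X)ᶜ) :=
      p.isClosedMap _ p.quasiFiniteLocus.2.isClosed_compl
    obtain ⟨x, hx⟩ := hne'
    have h7 : IsLocalRing.closedPoint R ∈ (p '' (p.quasiFiniteLocus : Set X)ᶜ) :=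
      (IsLocalRing.specializes_closedPoint (p x)).mem_closed hcl ⟨x, hx, rfl⟩
    obtain ⟨y, hy, hy'⟩ := h7
    exact hy (hqf y hy')
  have : LocallyQuasiFinite p := p.quasiFiniteLocus_eq_top_iff.mp htop
  exact IsFinite.of_isProper_of_locallyQuasiFinite p

end K188.FinPts
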