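import Groth.Agent.Neron.K188.AmpSq
import Groth.Agent.Neron.K188.Closure
import Groth.Agent.Neron.K188.FinPts
import Groth.Agent.AbSch.K451.FinPts
import Groth.Agent.Sga7.H730.Bc
import Groth.Agent.Sga7.H260.Ext
import Groth.Agent.Neron.K188.DivSec
import Groth.Agent.Neron.K188.Assemble
import Groth.Agent.Ega4dB.SmoothReg

/-!
# Sections of abelian schemes over regular local rings extend

`R` a regular local ring, `G` an abelian scheme over `R`, `W ⊆ Spec R` a nonempty open.
* `exists_section`: every section of `G` over `W` extends to `Spec R`.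
-/

set_option autoImplicit false
universe u

open CategoryTheory Limits MonoidalCategory CartesianMonoidalCategory AlgebraicGeometry TopologicalSpace
open scoped MonObj
open Groth.Agent.Fdesc.LocGen Groth.Agent.Grpsch.PicGrp Groth.Agent.Grpsch.Cube
open Groth.Agent.Sga7.H730.Tr Groth.Agent.Sga7.H730.Bc Groth.Agent.Sga7.H729.Dict

namespace K188.NeronCore

section General

variable {S : Scheme.{u}} (G : Over S) [GrpObj G]

/-- Comparison of translated classes over a geometric point with classes on `G × Spec Ω`. -/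
theorem pull_tr_eq {Ω : Type u} [Field Ω] (f : Spec (CommRingCat.of Ω) ⟶ S) (c n : Pic G.left)
    (x' : 𝟙_ (Over (Spec (CommRingCat.of Ω))) ⟶ Red.bc f G)
    (h : pull ((snd G ((Over.map f).obj (𝟙_ (Over (Spec (CommRingCat.of Ω))))) ≫ bcPts f G _ x') *
      fst G _).left c = pull (fst G ((Over.map f).obj (𝟙_ (Over (Spec (CommRingCat.of Ω)))))).left n) :
    pl (tr x') (pull (pr f G) c) = pull (pr f G) n := by
  let j : (Over.map f).obj (Red.bc f G) ⟶ G ⊗ (Over.map f).obj (𝟙_ (Over (Spec (CommRingCat.of Ω)))) :=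
    lift (prS f G) ((Over.map f).map (toUnit (Red.bc f G)))
  have h1 : j ≫ ((snd G ((Over.map f).obj (𝟙_ (Over (Spec (CommRingCat.of Ω))))) ≫ bcPts f G _ x') *
      fst G _) = bcPts f G _ (tr x') := by
    rw [MonObj.comp_mul, bcPts_tr, lift_fst, lift_snd_assoc]
  have h2 : pull j.left (pull ((snd G ((Over.map f).obj (𝟙_ (Over (Spec (CommRingCat.of Ω))))) ≫
      bcPts f G _ x') * fst G _).left c) = pull j.left (pull (fst G _).left n) := by rw [h]
  rw [← pull_comp, ← pull_comp, ← Over.comp_left, ← Over.comp_left, h1, lift_fst, bcPts_left,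
    prS_left, pull_comp] at h2
  exact h2

/-- Finiteness of the geometric points with prescribed translated class. -/
theorem finite_of_section [IsProper G.hom] [GeometricallyIntegral G.hom]
    {Ω : Type u} [Field Ω] [IsAlgClosed Ω] (f : Spec (CommRingCat.of Ω) ⟶ S) [IsAffineHom f]
    (L : G.left.Modules) (hL : PicF.IsInvertible L) (s : Coh.structureModule G.left ⟶ L)
    (haff : IsAffineOpen (CohB1.genLocus L s))
    (u : S ⟶ G.left) (hu : u ≫ G.hom = 𝟙 _) (hmem : u (f (IsLocalRing.closedPoint Ω)) ∈ CohB1.genLocus L s)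
    (d : Pic (Red.bc f G).left) :
    Set.Finite {x : 𝟙_ (Over (Spec (CommRingCat.of Ω))) ⟶ Red.bc f G |
      pl (tr x) (pull (pr f G) (mk L hL)) = d} := by
  have h1 : IsProper (Red.bc f G).hom := (inferInstance : IsProper (pullback.snd G.hom f))
  have h2 : GeometricallyIntegral (Red.bc f G).hom :=
    (inferInstance : GeometricallyIntegral (pullback.snd G.hom f))
  have h3 : IsAffineHom (pr f G) := MorphismProperty.pullback_fst _ _ inferInstance
  have h4 := Groth.Agent.Ega2.Weight.genLocus_pullHom (pr f G) hL s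
  have h5 := K188.AmpSq.finite_of_section (A := Red.bc f G) ((Scheme.Modules.pullback (pr f G)).obj L)
    (isInvertible_pullback (pr f G) hL) (Groth.Agent.Ega2.Weight.pullHom (pr f G) s)
    (by rw [h4]; exact haff.preimage (pr f G)) (by
      rw [h4]
      let b : Spec (CommRingCat.of Ω) ⟶ (Red.bc f G).left := pullback.lift (f ≫ u) (𝟙 _) (by
        rw [Category.assoc, hu, Category.comp_id, Category.id_comp])
      refine ⟨b (IsLocalRing.closedPoint Ω), ?_⟩
      change (pr f G) (b (IsLocalRing.closedPoint Ω)) ∈ CohB1.genLocus L s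
      rw [← Scheme.Hom.comp_apply, pullback.lift_fst, Scheme.Hom.comp_apply]
      exact hmem) d
  rw [pull_mk]
  exact h5

end General

section Dominant

/-- The generic point of `Spec R` is dominant in every nonempty open. -/
theorem exists_generic {R K : Type u} [CommRing R] [IsDomain R] [Field K] [Algebra R K] [IsFractionRing R K]
    (W : (Spec (CommRingCat.of R)).Opens) (hW : (W : Set (Spec (CommRingCat.of R))).Nonempty) :
    ∃ jK : Spec (CommRingCat.of K) ⟶ (W : Scheme.{u}),
      jK ≫ W.ι = Spec.map (CommRingCat.ofHom (algebraMap R K)) ∧ IsDominant jK := by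
  have hpt : ∀ z : Spec (CommRingCat.of K),
      Spec.map (CommRingCat.ofHom (algebraMap R K)) z = (⊥ : PrimeSpectrum R) := by
    intro z
    apply PrimeSpectrum.ext
    have hz : (z : PrimeSpectrum K).asIdeal = ⊥ := (Ideal.eq_bot_or_top _).resolve_right z.2.ne_top
    change Ideal.comap (algebraMap R K) (z : PrimeSpectrum K).asIdeal = ⊥
    rw [hz]
    exact (RingHom.injective_iff_ker_eq_bot _).mp (IsFractionRing.injective R K)
  have hmem : ∀ O : (Spec (CommRingCat.of R)).Opens, (O : Set (Spec (CommRingCat.of R))).Nonempty →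
      (⊥ : PrimeSpectrum R) ∈ O := by
    rintro O ⟨y, hy⟩
    have h1 : (⊥ : PrimeSpectrum R) ⤳ (y : PrimeSpectrum R) := by
      rw [← PrimeSpectrum.le_iff_specializes]
      exact bot_le
    exact h1.mem_open O.2 hy
  have hrange : Set.range (Spec.map (CommRingCat.ofHom (algebraMap R K))) ⊆ Set.range W.ι := by
    rintro _ ⟨z, rfl⟩
    rw [Scheme.Opens.range_ι, hpt z]
    exact hmem W hW
  refine ⟨IsOpenImmersion.lift W.ι _ hrange, IsOpenImmersion.lift_fac _ _ _, ⟨?_⟩⟩
  set jK := IsOpenImmersion.lift W.ι _ hrange with hjK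
  have hfac : jK ≫ W.ι = Spec.map (CommRingCat.ofHom (algebraMap R K)) := IsOpenImmersion.lift_fac _ _ _
  rw [DenseRange, dense_iff_inter_open]
  intro O hO hne
  refine ⟨jK (⊥ : PrimeSpectrum K), ?_, ⟨_, rfl⟩⟩
  have h2 : (⊥ : PrimeSpectrum R) ∈ W.ι ''ᵁ ⟨O, hO⟩ := hmem _ (hne.image W.ι)
  obtain ⟨w, hw, hw'⟩ := h2
  have h3 : W.ι (jK (⊥ : PrimeSpectrum K)) = W.ι w := by
    rw [← Scheme.Hom.comp_apply, hfac, hpt]
    exact hw'.symm
  have h4 := W.ι.isOpenEmbedding.injective h3
  rw [h4]
  exact hw

end Dominant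

section Main

variable {R : Type u} [CommRing R] [IsRegularLocalRing R]

theorem core : K188.Assemble.CoreProp R := by
  intro G _ _ _ _ W hW σ hσ
  have hdom : IsDomain R := (Groth.Agent.S2821.result R).1
  have hufd : UniqueFactorizationMonoid R := (Groth.Agent.S2821.result R).2
  have hregR : ∀ s : Spec (CommRingCat.of R), IsRegularLocalRing ((Spec (CommRingCat.of R)).presheaf.stalk s) := by
    intro s
    have h1 : IsRegularLocalRing (Localization.AtPrime s.asIdeal) := Groth.Agent.S0564.result R s.asIdeal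
    exact IsRegularLocalRing.of_ringEquiv
      (Spec.stalkIso (CommRingCat.of R) s).commRingCatIsoToRingEquiv.symm
  have hregG : ∀ x : G.left, IsRegularLocalRing (G.left.presheaf.stalk x) := fun x =>
    Groth.Agent.Ega4dB.SmoothReg.isRegularLocalRing_stalk_of_smooth G.hom x (hregR _)
  have hNR : IsNoetherian (Spec (CommRingCat.of R)) := inferInstance
  have hlnG : IsLocallyNoetherian G.left := LocallyOfFiniteType.isLocallyNoetherian G.hom
  have hcG : CompactSpace G.left := QuasiCompact.compactSpace_of_compactSpace G.hom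
  have hNG : IsNoetherian G.left := {}
  have hintG : IsIntegral G.left := GeometricallyIntegral.isIntegral_of_isLocallyNoetherian G.hom
  have hsepG : G.left.IsSeparated := ⟨by
    have : IsSeparated (G.hom ≫ terminal.from _) := inferInstance
    rwa [terminal.comp_from] at this⟩
  -- the geometric closed point
  let κ := IsLocalRing.ResidueField R
  let Ω := AlgebraicClosure κ
  let f : Spec (CommRingCat.of Ω) ⟶ Spec (CommRingCat.of R) :=
    Spec.map (CommRingCat.ofHom ((algebraMap κ Ω).comp (IsLocalRing.residue R)))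
  have hf : f (IsLocalRing.closedPoint Ω) = IsLocalRing.closedPoint R := by
    have : IsLocalHom ((algebraMap κ Ω).comp (IsLocalRing.residue R)) := inferInstance
    exact IsLocalRing.comap_closedPoint ((algebraMap κ Ω).comp (IsLocalRing.residue R))
  -- the divisor
  let u : Spec (CommRingCat.of R) ⟶ G.left := (η : 𝟙_ (Over (Spec (CommRingCat.of R))) ⟶ G).left
  have hu : u ≫ G.hom = 𝟙 _ := Over.w (η : 𝟙_ (Over (Spec (CommRingCat.of R))) ⟶ G)
  obtain ⟨L, hL, s, haff, hmem⟩ := K188.DivSec.exists_section G.left hregG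
    (u (f (IsLocalRing.closedPoint Ω)))
  let c : Pic G.left := mk L hL
  -- extension of the translated class
  let T : Over (Spec (CommRingCat.of R)) := Over.mk W.ι
  let σ' : T ⟶ G := Over.homMk σ hσ
  have hoi : IsOpenImmersion (fst G T).left := (inferInstance : IsOpenImmersion (pullback.fst G.hom W.ι))
  obtain ⟨n, hn⟩ := Groth.Agent.Sga7.H260.Ext.exists_restrict_iso (fst G T).left (fun y _ =>
    have := hregG y
    (Groth.Agent.S2821.result (G.left.presheaf.stalk y)).2) (pull ((snd G T ≫ σ') * fst G T).left c)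
  -- the closure of the section
  have hqcσ : QuasiCompact σ := by
    have : QuasiCompact (σ ≫ G.hom) := by rw [hσ]; infer_instance
    exact QuasiCompact.of_comp σ G.hom
  have himm : IsImmersion σ := by
    have : IsImmersion (σ ≫ G.hom) := by rw [hσ]; infer_instance
    exact IsImmersion.of_comp σ G.hom
  let Γ : Over (Spec (CommRingCat.of R)) := Over.mk (σ.imageι ≫ G.hom)
  let τ₀ : Γ ⟶ G := Over.homMk σ.imageι rfl
  let q : T ⟶ Γ := Over.homMk σ.toImage (by
    change σ.toImage ≫ σ.imageι ≫ G.hom = W.ι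
    rw [Scheme.Hom.toImage_imageι_assoc, hσ])
  have hqτ : q ≫ τ₀ = σ' := by
    ext1
    exact σ.toImage_imageι
  have hq1 : IsPreimmersion q.left := (inferInstance : IsPreimmersion σ.toImage)
  have hq2 : IsDominant q.left := (inferInstance : IsDominant σ.toImage)
  have hprop : IsProper Γ.hom := (inferInstance : IsProper (σ.imageι ≫ G.hom))
  have hd : pull ((G ◁ q) ≫ ((snd G Γ ≫ τ₀) * fst G Γ)).left c = pull ((G ◁ q) ≫ fst G Γ).left n := by
    rw [MonObj.comp_mul, whiskerLeft_snd_assoc, whiskerLeft_fst, hqτ, hn]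
  -- finiteness
  have hfin := finite_of_section G f L hL s haff u hu hmem (pull (pr f G) n)
  have hmono : Mono τ₀.left := (inferInstance : Mono σ.imageι)
  have hfin' : Finite {z : Spec (CommRingCat.of Ω) ⟶ Γ.left // z ≫ Γ.hom = f} := by
    let T' : Over (Spec (CommRingCat.of R)) := (Over.map f).obj (𝟙_ (Over (Spec (CommRingCat.of Ω))))
    let Z : {z : Spec (CommRingCat.of Ω) ⟶ Γ.left // z ≫ Γ.hom = f} → (T' ⟶ Γ) := fun z =>
      Over.homMk z.1 (z.2.trans (Category.id_comp f).symm)
    let x' : {z : Spec (CommRingCat.of Ω) ⟶ Γ.left // z ≫ Γ.hom = f} →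
        (𝟙_ (Over (Spec (CommRingCat.of Ω))) ⟶ Red.bc f G) := fun z =>
      (bcPts f G _).symm (Z z ≫ τ₀)
    have hx' : ∀ z, bcPts f G _ (x' z) = Z z ≫ τ₀ := fun z => (bcPts f G _).apply_symm_apply _
    have hmem' : ∀ z, pl (tr (x' z)) (pull (pr f G) c) = pull (pr f G) n := by
      intro z
      apply pull_tr_eq G f c n (x' z)
      rw [hx' z]
      have h1 := Scheme.descResidueField_stalkClosedPointTo_fromSpecResidueField Ω _ z.1
      have h2 := K188.Closure.pull_eq_pull G q _ _ c n hd (Z z) _ _ h1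
      rw [MonObj.comp_mul, whiskerLeft_snd_assoc, whiskerLeft_fst] at h2
      exact h2
    have := hfin.to_subtype
    refine Finite.of_injective (fun z => (⟨x' z, hmem' z⟩ : {x : 𝟙_ (Over (Spec (CommRingCat.of Ω))) ⟶ Red.bc f G |
      pl (tr x) (pull (pr f G) (mk L hL)) = pull (pr f G) n})) ?_
    intro z z' hzz
    have h3 : x' z = x' z' := congrArg Subtype.val hzz
    have h4 := (bcPts f G _).symm.injective h3
    have h5 : (Z z ≫ τ₀).left = (Z z' ≫ τ₀).left := congrArg (fun k => k.left) h4
    rw [Over.comp_left, Over.comp_left, cancel_mono] at h5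
    exact Subtype.ext h5
  have hfinite : IsFinite Γ.hom := K188.FinPts.isFinite_of_geomPts Γ.hom Ω f hf hfin'
  -- the section
  let K := FractionRing R
  obtain ⟨jK, hjK, hjKd⟩ := exists_generic (K := K) W hW
  obtain ⟨a, ha1, ha2⟩ := K451.FinPts.exists_section Γ.hom (jK ≫ q.left) (by
    rw [Category.assoc, Over.w q]
    exact hjK)
  refine ⟨a ≫ τ₀.left, ?_, ?_⟩
  · rw [Category.assoc, Over.w τ₀, ha1]
  · refine ext_of_isDominant_of_isSeparated G.hom ?_ jK ?_
    · rw [Category.assoc, Category.assoc, Over.w τ₀, ha1, hσ, Category.comp_id]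
    · rw [← Category.assoc, ← Category.assoc, hjK, ha2, Category.assoc, ← Over.comp_left, hqτ]
      rfl

end Main

end K188.NeronCore
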