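import Groth.Agent.Sga3.H780.Pointed
import Groth.Prelude.Def_Red

/-!
# A smooth group scheme with connected geometric fibres is geometrically integral
-/

set_option autoImplicit false
universe u

open CategoryTheory Limits AlgebraicGeometry

namespace K188.GeoInt

theorem geometricallyIntegral {S : Scheme.{u}} (A : Over S) [GrpObj A] [Smooth A.hom]
    (hconn : ∀ (L : Type u) [Field L] (t : Spec (CommRingCat.of L) ⟶ S), ConnectedSpace ↑(pullback A.hom t)) :
    GeometricallyIntegral A.hom := by
  refine ⟨fun K _ t Z fst snd h => ?_⟩
  have h1 : Smooth (Red.bc t A).hom := (inferInstance : Smooth (pullback.snd A.hom t))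
  have h2 : ConnectedSpace (Red.bc t A).left := hconn K t
  have h3 := Groth.Agent.Sga3.H780.Pointed.isIntegral (Red.bc t A)
  have h4 : IsIntegral (pullback A.hom t) := h3
  have h5 : Nonempty Z := ⟨h.isoPullback.inv (Classical.arbitrary _)⟩
  exact isIntegral_of_isOpenImmersion h.isoPullback.hom

end K188.GeoInt
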